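import Cfsg.Agent.H349.PiSpor.SmallFacts
import Cfsg.Agent.H849.PiSpor.SZ

/-!
# S4324, `s = 3`: the small sporadic groups and the Tits group (helper349, task PI-SPOR SZC)

`nc3_small` : no Suzuki order divides `|K|` (`sf_small`), so `H849.PiSpor.nc3_of_card` applies.
-/

set_option autoImplicit false

namespace Cfsg.Agent.H349.PiSpor

open Subgroup Cfsg Cfsg.Agent.H216.Pi

universe u

theorem nc3_small {K : Type u} [Group K] [Finite K]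
    (h : Spor.IsoM11 K ∨ Spor.IsoM12 K ∨ Spor.IsoM22 K ∨ Spor.IsoM23 K ∨ Spor.IsoM24 K ∨ Spor.IsoJ2 K ∨
      Spor.IsoJ3 K ∨ Spor.IsoJ4 K ∨ Spor.IsoHS K ∨ Spor.IsoMcL K ∨ Spor.IsoHe K ∨ Spor.IsoON K ∨ Spor.IsoCo3 K ∨
      Spor.IsoCo2 K ∨ Spor.IsoHN K ∨ Spor.IsoLy K ∨ Lie.IsoTits K) : NCs 3 K := by
  obtain ⟨hs, hna, hz⟩ := sf_small h
  exact H849.PiSpor.nc3_of_card hna hz

end Cfsg.Agent.H349.PiSpor
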