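import Cfsg.Agent.H349.PiSpor.SmallFacts
import Cfsg.Agent.H849.PiSpor.SZ0

/-!
# S4324, `s = 3`: the small sporadic groups and the Tits group, light version (helper349, task PI-SPOR SZC)

`nc3_small_of` : with S3832 as a hypothesis.
-/

set_option autoImplicit false

namespace Cfsg.Agent.H349.PiSpor

open Subgroup Cfsg Cfsg.Agent.H216.Pi

universe u

theorem nc3_small_of (h3832 : ∀ (G : Type u) [Group G] [Finite G] (x : G), x ≠ 1 → (x ∈ Cfsg.solvableRadical G ↔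
      ∀ g₁ g₂ g₃ g₄ : G, Group.IsSolvable ↥(Subgroup.closure
        ({g₁ * x * g₁⁻¹, g₂ * x * g₂⁻¹, g₃ * x * g₃⁻¹, g₄ * x * g₄⁻¹} : Set G)))) {K : Type u} [Group K] [Finite K]
    (h : Spor.IsoM11 K ∨ Spor.IsoM12 K ∨ Spor.IsoM22 K ∨ Spor.IsoM23 K ∨ Spor.IsoM24 K ∨ Spor.IsoJ2 K ∨
      Spor.IsoJ3 K ∨ Spor.IsoJ4 K ∨ Spor.IsoHS K ∨ Spor.IsoMcL K ∨ Spor.IsoHe K ∨ Spor.IsoON K ∨ Spor.IsoCo3 K ∨
      Spor.IsoCo2 K ∨ Spor.IsoHN K ∨ Spor.IsoLy K ∨ Lie.IsoTits K) : NCs 3 K := by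
  obtain ⟨hs, hna, hz⟩ := sf_small h
  exact H849.PiSpor.nc3_of h3832 hna hz

end Cfsg.Agent.H349.PiSpor
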